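import Cfsg.Agent.Lib.Laws.SL2

/-! A nontrivial word fails in all large alternating groups. -/

namespace Cfsg.Agent.Lib.Laws

open Equiv

/-- `σ ↦ σ ⊕ σ ⊕ 1`, an even permutation -/
noncomputable def doubleHom (k n : ℕ) (h : 2 * k ≤ n) :
    Perm (Fin k) →* alternatingGroup (Fin n) :=
  let e : (Fin k ⊕ Fin k) ⊕ Fin (n - 2 * k) ≃ Fin n :=
    (Equiv.sumCongr finSumFinEquiv (Equiv.refl _)).trans (finSumFinEquiv.trans (finCongr (by omega)))
  MonoidHom.codRestrict
    { toFun := fun σ => e.permCongr (Equiv.sumCongr (Equiv.sumCongr σ σ) (Equiv.refl _))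
      map_one' := by ext x; simp [Equiv.permCongr_apply]
      map_mul' := fun σ τ => by
        ext x
        simp only [Equiv.permCongr_apply, Equiv.Perm.mul_apply, Equiv.symm_apply_apply]
        rcases e.symm x with (i | i) | i <;> simp }
    (alternatingGroup (Fin n)) (fun σ => by
      simp [Equiv.Perm.mem_alternatingGroup, Equiv.Perm.sign_sumCongr])

theorem doubleHom_injective (k n : ℕ) (h : 2 * k ≤ n) : Function.Injective (doubleHom k n h) := by
  intro σ τ hst
  have := congrArg Subtype.val hst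
  simp [doubleHom] at this
  ext x
  have hx := DFunLike.congr_fun this (Sum.inl (Sum.inl x))
  simpa using congrArg Fin.val (Sum.inl_injective (Sum.inl_injective hx))

theorem alt_witness (w : FreeGroup ℕ) (hw : w ≠ 1) :
    ∃ N : ℕ, ∀ n : ℕ, N ≤ n → ∃ f : ℕ → alternatingGroup (Fin n), FreeGroup.lift f w ≠ 1 := by
  obtain ⟨N, hN⟩ := sl2_witness.{0} w hw
  obtain ⟨p, hp, hpp⟩ := Nat.exists_infinite_primes N
  haveI := Fact.mk hpp
  obtain ⟨f, -, hf⟩ := hN (ZMod p) (by simpa using hp)
  let H := Matrix.SpecialLinearGroup (Fin 2) (ZMod p)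
  let e : H ≃ Fin (Fintype.card H) := Fintype.equivFin H
  let φ : H →* Perm (Fin (Fintype.card H)) :=
    (e.permCongrHom.toMonoidHom).comp (MulAction.toPermHom H H)
  have hφ : Function.Injective φ :=
    e.permCongrHom.injective.comp MulAction.toPerm_injective
  refine ⟨2 * Fintype.card H, fun n hn => ?_⟩
  let ψ := (doubleHom _ n hn).comp φ
  have hψ : Function.Injective ψ := (doubleHom_injective _ n hn).comp hφ
  refine ⟨fun i => ψ (f i), fun h => hf ?_⟩
  have e2 : FreeGroup.lift (fun i => ψ (f i)) = ψ.comp (FreeGroup.lift f) := by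
    apply FreeGroup.ext_hom; intro i; simp
  rw [e2, MonoidHom.comp_apply, ← map_one ψ] at h
  rw [hψ h]
  exact one_mem _

end Cfsg.Agent.Lib.Laws
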