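import Cfsg.Agent.Lib.Laws.Alt

/-! Failure of a law witnessed inside the commutator subgroup, and its transfer along embeddings. -/

namespace Cfsg.Agent.Lib.Laws

universe u

open scoped commutatorElement

/-- `w` takes, on elements of the commutator subgroup, a value not centralizing that subgroup -/
def StronglyFails (w : FreeGroup ℕ) (S : Type*) [Group S] : Prop :=
  ∃ f : ℕ → S, (∀ n, f n ∈ commutator S) ∧ ∃ y ∈ commutator S, ¬ Commute (FreeGroup.lift f w) y

theorem map_commutator_le {S X : Type*} [Group S] [Group X] (φ : S →* X) :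
    (commutator S).map φ ≤ commutator X := by
  rw [commutator_def, Subgroup.map_commutator, commutator_def]
  exact Subgroup.commutator_mono le_top le_top

theorem lift_map {S X : Type*} [Group S] [Group X] (φ : S →* X) (f : ℕ → S) (w : FreeGroup ℕ) :
    FreeGroup.lift (fun n => φ (f n)) w = φ (FreeGroup.lift f w) := by
  rw [← MonoidHom.comp_apply]
  congr 1
  apply FreeGroup.ext_hom; intro i; simp

theorem StronglyFails.quot {w : FreeGroup ℕ} {S X : Type*} [Group S] [Group X] (h : StronglyFails w S)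
    (φ : S →* X) (hφ : Function.Injective φ) :
    ∃ f : ℕ → X ⧸ Subgroup.center X, FreeGroup.lift f w ≠ 1 := by
  obtain ⟨f, -, y, -, hy⟩ := h
  refine ⟨fun n => (QuotientGroup.mk' (Subgroup.center X)).comp φ (f n), fun h1 => hy ?_⟩
  rw [lift_map ((QuotientGroup.mk' (Subgroup.center X)).comp φ)] at h1
  apply hφ
  rw [map_mul, map_mul]
  exact (Subgroup.mem_center_iff.1 ((QuotientGroup.eq_one_iff _).1 h1) (φ y)).symm

theorem StronglyFails.quotCommutator {w : FreeGroup ℕ} {S X : Type*} [Group S] [Group X]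
    (h : StronglyFails w S) (φ : S →* X) (hφ : Function.Injective φ) :
    ∃ f : ℕ → ↥(commutator X) ⧸ Subgroup.center ↥(commutator X), FreeGroup.lift f w ≠ 1 := by
  obtain ⟨f, hf, y, hy, hc⟩ := h
  let ψ : ↥(commutator S) →* ↥(commutator X) :=
    (φ.comp (commutator S).subtype).codRestrict _ fun s => map_commutator_le φ ⟨_, s.2, rfl⟩
  refine ⟨fun n => (QuotientGroup.mk' _).comp ψ ⟨f n, hf n⟩, fun h1 => hc ?_⟩
  rw [lift_map ((QuotientGroup.mk' _).comp ψ)] at h1
  have h2 := Subgroup.mem_center_iff.1 ((QuotientGroup.eq_one_iff _).1 h1) (ψ ⟨y, hy⟩)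
  have h3 := congrArg Subtype.val h2
  rw [Subgroup.coe_mul, Subgroup.coe_mul] at h3
  apply hφ
  rw [show f = fun n => (commutator S).subtype ⟨f n, hf n⟩ from rfl, lift_map]
  rw [map_mul, map_mul]
  exact h3.symm

theorem sl2_stronglyFails (w : FreeGroup ℕ) (hw : w ≠ 1) :
    ∃ N : ℕ, ∀ (F : Type u) [Field F] [Fintype F], N ≤ Fintype.card F →
      StronglyFails w (Matrix.SpecialLinearGroup (Fin 2) F) := by
  let w2 : FreeGroup ℕ := ⁅FreeGroup.map Nat.succ w, FreeGroup.of 0⁆
  have hw2 : w2 ≠ 1 := by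
    obtain ⟨N, hN⟩ := sl2_witness.{0} w hw
    obtain ⟨p, hp, hpp⟩ := Nat.exists_infinite_primes N
    haveI := Fact.mk hpp
    obtain ⟨f, -, hf⟩ := hN (ZMod p) (by simpa using hp)
    intro h
    apply hf
    rw [Subgroup.mem_center_iff]
    intro y
    let F' : ℕ → Matrix.SpecialLinearGroup (Fin 2) (ZMod p) := fun n => n.casesOn y f
    have := congrArg (FreeGroup.lift F') h
    rw [map_commutatorElement, map_one, commutatorElement_eq_one_iff_mul_comm] at this
    have e : FreeGroup.lift F' (FreeGroup.map Nat.succ w) = FreeGroup.lift f w := by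
      rw [← MonoidHom.comp_apply]
      congr 1
      apply FreeGroup.ext_hom; intro i; simp [F']
    rw [e, FreeGroup.lift_apply_of] at this
    exact this.symm
  obtain ⟨N, hN⟩ := sl2_witness.{u} w2 hw2
  refine ⟨N, fun F _ _ hF => ?_⟩
  obtain ⟨f, hf, hv⟩ := hN F hF
  refine ⟨fun n => f (n + 1), fun n => hf _, f 0, hf 0, fun hc => hv ?_⟩
  have e : FreeGroup.lift f (FreeGroup.map Nat.succ w) = FreeGroup.lift (fun n => f (n + 1)) w := by
    rw [← MonoidHom.comp_apply]
    congr 1
    apply FreeGroup.ext_hom; intro i; simp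
  have : FreeGroup.lift f w2 = 1 := by
    rw [map_commutatorElement, commutatorElement_eq_one_iff_mul_comm, e, FreeGroup.lift_apply_of]
    exact hc
  rw [this]
  exact one_mem _

theorem alt_stronglyFails (w : FreeGroup ℕ) (hw : w ≠ 1) :
    ∃ N : ℕ, ∀ n : ℕ, N ≤ n → StronglyFails w (alternatingGroup (Fin n)) := by
  obtain ⟨N, hN⟩ := alt_witness w hw
  refine ⟨N + 5, fun n hn => ?_⟩
  obtain ⟨f, hf⟩ := hN n (by omega)
  have hc : commutator (alternatingGroup (Fin n)) = ⊤ :=
    commutator_alternatingGroup_eq_top (by simp; omega)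
  refine ⟨f, fun i => by simp [hc], ?_⟩
  by_contra h
  push Not at h
  apply hf
  have : FreeGroup.lift f w ∈ Subgroup.center (alternatingGroup (Fin n)) :=
    Subgroup.mem_center_iff.2 fun y => (h y (by simp [hc])).symm
  rwa [alternatingGroup.center_eq_bot (by simp; omega), Subgroup.mem_bot] at this

end Cfsg.Agent.Lib.Laws
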