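import Mathlib

/-! Evaluating reduced words at conjugates of torus elements: a word of length `L` in such
matrices has a rank-one top coefficient, so it is scalar only at boundedly many parameters. -/

namespace Cfsg.Agent.Lib.Laws

open Matrix Polynomial

/-- `x_n ↦ a^n b a^{-n}` -/
def twoGen : FreeGroup ℕ →* FreeGroup (Fin 2) :=
  FreeGroup.lift fun n => FreeGroup.of 0 ^ n * FreeGroup.of 1 * (FreeGroup.of 0 ^ n)⁻¹

/-- the shift action of the infinite cyclic group -/
def shiftAct : Multiplicative ℤ →* MulAut (FreeGroup ℤ) where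
  toFun k := FreeGroup.freeGroupCongr (Equiv.addLeft k.toAdd)
  map_one' := by ext x; simp [FreeGroup.freeGroupCongr]
  map_mul' a b := by
    ext x
    simp [FreeGroup.freeGroupCongr, FreeGroup.map.comp, Function.comp_def]

theorem twoGen_injective : Function.Injective twoGen := by
  let ψ : FreeGroup (Fin 2) →* FreeGroup ℤ ⋊[shiftAct] Multiplicative ℤ :=
    FreeGroup.lift ![SemidirectProduct.inr (Multiplicative.ofAdd 1),
      SemidirectProduct.inl (FreeGroup.of 0)]
  have h : ψ.comp twoGen = SemidirectProduct.inl.comp (FreeGroup.map (fun n : ℕ => (n : ℤ))) := by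
    apply FreeGroup.ext_hom
    intro n
    simp only [ψ, twoGen, MonoidHom.comp_apply, FreeGroup.lift_apply_of, map_mul, map_pow, map_inv,
      Matrix.cons_val_zero, Matrix.cons_val_one, Matrix.cons_val_fin_one, FreeGroup.map.of]
    rw [← map_pow SemidirectProduct.inr, ← map_inv SemidirectProduct.inr, ← SemidirectProduct.inl_aut]
    simp [shiftAct, FreeGroup.freeGroupCongr]
  intro x y hxy
  have := congrArg ψ hxy
  rw [← MonoidHom.comp_apply, ← MonoidHom.comp_apply, h] at this
  exact FreeGroup.map_injective Nat.cast_injective (SemidirectProduct.inl_injective this)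

theorem lift_twoGen {G : Type*} [Group G] (g : Fin 2 → G) (w : FreeGroup ℕ) :
    FreeGroup.lift (fun n => g 0 ^ n * g 1 * (g 0 ^ n)⁻¹) w = FreeGroup.lift g (twoGen w) := by
  have h : FreeGroup.lift (fun n => g 0 ^ n * g 1 * (g 0 ^ n)⁻¹) = (FreeGroup.lift g).comp twoGen := by
    apply FreeGroup.ext_hom; intro n; simp [twoGen]
  rw [h]; rfl

section
variable {ι : Type*} {F : Type*} [Field F] {n : Type*} [Fintype n] [DecidableEq n]

/-- the polynomial matrix of a letter -/
noncomputable def letterPoly (h h' : ι → Matrix n n F) (a : Bool → n → ℕ) (x : ι × Bool) :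
    Matrix n n F[X] :=
  (h x.1).map C * diagonal (fun k => X ^ a x.2 k) * (h' x.1).map C

/-- its value at `s` -/
def letterVal (h h' : ι → Matrix n n F) (a : Bool → n → ℕ) (s : F) (x : ι × Bool) : Matrix n n F :=
  h x.1 * diagonal (fun k => s ^ a x.2 k) * h' x.1

variable (h h' : ι → Matrix n n F) (a : Bool → n → ℕ)

theorem map_eval_letterPoly (s : F) (x : ι × Bool) :
    (letterPoly h h' a x).map (evalRingHom s) = letterVal h h' a s x := by
  have e : ∀ m : Matrix n n F, (m.map C).map (evalRingHom s) = m := by
    intro m; ext i j; simp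
  rw [letterPoly, Matrix.map_mul, Matrix.map_mul, e, e, letterVal]
  congr 2
  rw [Matrix.diagonal_map (map_zero _)]
  simp

theorem letterPoly_apply (x : ι × Bool) (i j : n) :
    letterPoly h h' a x i j = ∑ k, C (h x.1 i k) * X ^ a x.2 k * C (h' x.1 k j) := by
  rw [letterPoly, Matrix.mul_apply]
  simp [Matrix.mul_diagonal]

theorem letterPoly_natDegree (d : ℕ) (hle : ∀ e k, a e k ≤ d) (x : ι × Bool) (i j : n) :
    (letterPoly h h' a x i j).natDegree ≤ d := by
  rw [letterPoly_apply]
  refine natDegree_sum_le_of_forall_le _ _ fun k _ => ?_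
  refine le_trans natDegree_mul_le ?_
  refine le_trans (Nat.add_le_add_right natDegree_mul_le _) ?_
  simpa using hle x.2 k

theorem letterPoly_coeff (d : ℕ) (top : Bool → n) (heq : ∀ e k, a e k = d ↔ k = top e)
    (x : ι × Bool) (i j : n) :
    (letterPoly h h' a x i j).coeff d = h x.1 i (top x.2) * h' x.1 (top x.2) j := by
  rw [letterPoly_apply, finsetSum_coeff]
  rw [Finset.sum_eq_single (top x.2)]
  · rw [(heq x.2 (top x.2)).2 rfl, coeff_mul_C, coeff_C_mul, coeff_X_pow, if_pos rfl, mul_one]
  · intro k _ hk
    have : d ≠ a x.2 k := fun hh => hk ((heq _ _).1 hh.symm)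
    rw [coeff_mul_C, coeff_C_mul, coeff_X_pow, if_neg this, mul_zero, zero_mul]
  · simp

theorem prod_poly (d : ℕ) (top : Bool → n) (hle : ∀ e k, a e k ≤ d)
    (heq : ∀ e k, a e k = d ↔ k = top e)
    (compat : ∀ i j : ι, ∀ e f : Bool, (i = j → e = f) → (h' i * h j) (top e) (top f) ≠ 0) :
    ∀ (l : List (ι × Bool)) (x : ι × Bool), FreeGroup.IsReduced (x :: l) →
      ∃ r : n → F, r ≠ 0 ∧ ∀ i j,
        (((x :: l).map (letterPoly h h' a)).prod i j).natDegree ≤ (l.length + 1) * d ∧
        (((x :: l).map (letterPoly h h' a)).prod i j).coeff ((l.length + 1) * d) =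
          h x.1 i (top x.2) * r j := by
  intro l
  induction l with
  | nil =>
    intro x _
    refine ⟨fun j => h' x.1 (top x.2) j, ?_, fun i j => ?_⟩
    · intro h0
      apply compat x.1 x.1 x.2 x.2 (fun _ => rfl)
      rw [Matrix.mul_apply]
      exact Finset.sum_eq_zero fun k _ => by rw [show h' x.1 (top x.2) k = 0 from congrFun h0 k, zero_mul]
    · simp [letterPoly_natDegree h h' a d hle, letterPoly_coeff h h' a d top heq]
  | cons y l ih =>
    intro x hred
    have hred' := FreeGroup.isReduced_cons_cons.1 hred
    obtain ⟨r, hr, hP⟩ := ih y hred'.2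
    have hc : (h' x.1 * h y.1) (top x.2) (top y.2) ≠ 0 := compat _ _ _ _ hred'.1
    refine ⟨((h' x.1 * h y.1) (top x.2) (top y.2)) • r, smul_ne_zero hc hr, fun i j => ?_⟩
    have hlen : ((y :: l).length + 1) * d = d + (l.length + 1) * d := by simp; ring
    rw [hlen, List.map_cons, List.prod_cons, Matrix.mul_apply]
    constructor
    · exact natDegree_sum_le_of_forall_le _ _ fun k _ =>
        le_trans natDegree_mul_le (Nat.add_le_add (letterPoly_natDegree h h' a d hle x i k) (hP k j).1)
    · rw [finsetSum_coeff]
      calc ∑ k, (letterPoly h h' a x i k * ((y :: l).map (letterPoly h h' a)).prod k j).coeff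
              (d + (l.length + 1) * d)
          = ∑ k, (h x.1 i (top x.2) * h' x.1 (top x.2) k) * (h y.1 k (top y.2) * r j) := by
            refine Finset.sum_congr rfl fun k _ => ?_
            rw [coeff_mul_add_eq_of_natDegree_le (letterPoly_natDegree h h' a d hle x i k) (hP k j).1,
              letterPoly_coeff h h' a d top heq, (hP k j).2]
        _ = _ := by
            rw [Matrix.mul_apply, Pi.smul_apply, smul_eq_mul, Finset.sum_mul, Finset.mul_sum]
            exact Finset.sum_congr rfl fun k _ => by ring

/-- A non-empty reduced word is non-scalar at some nonzero parameter of a large field. -/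
theorem exists_nonscalar [Fintype F] [Nontrivial n] (d : ℕ) (top : Bool → n) (hle : ∀ e k, a e k ≤ d)
    (heq : ∀ e k, a e k = d ↔ k = top e)
    (compat : ∀ i j : ι, ∀ e f : Bool, (i = j → e = f) → (h' i * h j) (top e) (top f) ≠ 0)
    (l : List (ι × Bool)) (hl : l ≠ []) (hred : FreeGroup.IsReduced l)
    (hF : l.length * d + 1 < Fintype.card F) :
    ∃ s : F, s ≠ 0 ∧ ∀ c : F, (l.map (letterVal h h' a s)).prod ≠ Matrix.scalar n c := by
  classical
  obtain ⟨x, l, rfl⟩ := List.exists_cons_of_ne_nil hl
  obtain ⟨r, hr, hP⟩ := prod_poly h h' a d top hle heq compat l x hred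
  set P := ((x :: l).map (letterPoly h h' a)).prod with hPdef
  have hcol : ∃ i, h x.1 i (top x.2) ≠ 0 := by
    by_contra hh
    push Not at hh
    apply compat x.1 x.1 x.2 x.2 (fun _ => rfl)
    rw [Matrix.mul_apply]
    exact Finset.sum_eq_zero fun k _ => by rw [hh k, mul_zero]
  obtain ⟨i, hi⟩ := hcol
  obtain ⟨j, hj⟩ := Function.ne_iff.1 hr
  have hval : ∀ s : F, P.map (evalRingHom s) = ((x :: l).map (letterVal h h' a s)).prod := by
    intro s
    rw [hPdef, ← RingHom.mapMatrix_apply, map_list_prod, List.map_map]
    congr 1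
    apply List.map_congr_left
    intro y _
    exact map_eval_letterPoly h h' a s y
  set N := (l.length + 1) * d with hN
  have key : ∃ p : F[X], p ≠ 0 ∧ p.natDegree ≤ N ∧
      ∀ (s c : F), P.map (evalRingHom s) = Matrix.scalar n c → p.eval s = 0 := by
    by_cases hij : i = j
    · subst hij
      obtain ⟨k, hk⟩ := exists_ne i
      by_cases hik : h x.1 k (top x.2) * r i = 0
      · refine ⟨P i i - P k k, ?_, ?_, ?_⟩
        · intro h0
          have := congrArg (fun p => coeff p N) h0
          simp only [coeff_sub, (hP i i).2, (hP k k).2, coeff_zero] at this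
          have hk0 : h x.1 k (top x.2) = 0 := by
            rcases mul_eq_zero.1 hik with h' | h'
            · exact h'
            · exact absurd h' hj
          rw [hk0, zero_mul, sub_zero] at this
          exact mul_ne_zero hi hj this
        · exact le_trans (natDegree_sub_le _ _) (max_le (hP i i).1 (hP k k).1)
        · intro s c hs
          have h1 := congrFun (congrFun hs i) i
          have h2 := congrFun (congrFun hs k) k
          simp at h1 h2
          rw [eval_sub, h1, h2, sub_self]
      · refine ⟨P k i, ?_, (hP k i).1, ?_⟩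
        · intro h0
          apply hik
          rw [← (hP k i).2, h0, coeff_zero]
        · intro s c hs
          simpa [hk] using congrFun (congrFun hs k) i
    · refine ⟨P i j, ?_, (hP i j).1, ?_⟩
      · intro h0
        apply mul_ne_zero hi hj
        rw [← (hP i j).2, h0, coeff_zero]
      · intro s c hs
        simpa [hij] using congrFun (congrFun hs i) j
  obtain ⟨p, hp0, hpdeg, hp⟩ := key
  have hlt : (p.roots.toFinset ∪ {0}).card < Fintype.card F := by
    refine lt_of_le_of_lt (Finset.card_union_le _ _) ?_
    have h1 : p.roots.toFinset.card ≤ N :=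
      le_trans (le_trans p.roots.toFinset_card_le p.card_roots') hpdeg
    simp only [List.length_cons] at hF
    simp only [Finset.card_singleton]
    omega
  obtain ⟨s, -, hs⟩ := Finset.exists_mem_notMem_of_card_lt_card (t := Finset.univ) hlt
  simp only [Finset.mem_union, Multiset.mem_toFinset, mem_roots hp0, Finset.mem_singleton,
    not_or] at hs
  exact ⟨s, hs.2, fun c hc => hs.1 (hp s c ((hval s).trans hc))⟩

end

end Cfsg.Agent.Lib.Laws
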