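import Cfsg.Agent.Lib.Laws.Bad
import Cfsg.Prelude.Def_Classical

/-! Small alternating and linear groups inside the classical groups. -/

namespace Cfsg.Agent.Lib.Laws

open Matrix
open scoped Matrix

variable {F : Type*} [Field F]

/-- permutation matrices in `SL_n` -/
noncomputable def altToSL (n : ℕ) (F : Type*) [Field F] :
    alternatingGroup (Fin n) →* Matrix.SpecialLinearGroup (Fin n) F where
  toFun σ := ⟨permMatrixHom σ.1, by
    rw [permMatrixHom_apply, det_permutation, Equiv.Perm.sign_inv,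
      Equiv.Perm.mem_alternatingGroup.1 σ.2]
    simp⟩
  map_one' := Subtype.ext (map_one permMatrixHom)
  map_mul' σ τ := Subtype.ext (map_mul permMatrixHom σ.1 τ.1)

theorem altToSL_injective (n : ℕ) : Function.Injective (altToSL n F) := by
  intro σ τ h
  have h' : permMatrixHom (R := F) σ.1 = permMatrixHom τ.1 := congrArg Subtype.val h
  apply Subtype.ext
  rw [permMatrixHom_apply, permMatrixHom_apply] at h'
  apply inv_injective
  ext x
  have := congrFun (congrFun h' x) ((σ.1)⁻¹ x)
  simp [PEquiv.toMatrix_apply, Equiv.toPEquiv_apply] at this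
  exact congrArg Fin.val this.symm

/-- `A ↦ diag(A, 1)` -/
noncomputable def slBlock (k n : ℕ) (h : k ≤ n) (F : Type*) [Field F] :
    Matrix.SpecialLinearGroup (Fin k) F →* Matrix.SpecialLinearGroup (Fin n) F :=
  let e : Fin k ⊕ Fin (n - k) ≃ Fin n := finSumFinEquiv.trans (finCongr (by omega))
  { toFun := fun A => ⟨Matrix.reindex e e (fromBlocks (A : Matrix (Fin k) (Fin k) F) 0 0 1), by
      rw [det_reindex_self, det_fromBlocks_zero₂₁, det_one, mul_one]; exact A.2⟩
    map_one' := Subtype.ext (show Matrix.reindex e e (fromBlocks (1 : Matrix (Fin k) (Fin k) F) 0 0 1) = 1 by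
      simp [fromBlocks_one])
    map_mul' := fun A B => Subtype.ext (show
      Matrix.reindex e e (fromBlocks ((A : Matrix (Fin k) (Fin k) F) * (B : Matrix (Fin k) (Fin k) F)) 0 0 1) =
        Matrix.reindex e e (fromBlocks (A : Matrix (Fin k) (Fin k) F) 0 0 1) *
        Matrix.reindex e e (fromBlocks (B : Matrix (Fin k) (Fin k) F) 0 0 1) by
      rw [reindex_apply, reindex_apply, reindex_apply, submatrix_mul_equiv, fromBlocks_multiply]
      simp) }

theorem slBlock_coe (k n : ℕ) (h : k ≤ n) (A : Matrix.SpecialLinearGroup (Fin k) F) :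
    (slBlock k n h F A : Matrix (Fin n) (Fin n) F) =
      Matrix.reindex (finSumFinEquiv.trans (finCongr (by omega))) (finSumFinEquiv.trans (finCongr (by omega)))
        (fromBlocks (A : Matrix (Fin k) (Fin k) F) 0 0 (1 : Matrix (Fin (n - k)) (Fin (n - k)) F)) := rfl

theorem slBlock_injective (k n : ℕ) (h : k ≤ n) : Function.Injective (slBlock k n h F) := by
  intro A B hAB
  have := congrArg (fun X : Matrix.SpecialLinearGroup (Fin n) F => (X : Matrix (Fin n) (Fin n) F)) hAB
  simp only [slBlock_coe] at this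
  exact Subtype.ext (fromBlocks_inj.1 ((Matrix.reindex _ _).injective this)).1

/-- `A ↦ diag(A, A⁻ᵀ)` -/
noncomputable def hypHom (m : ℕ) (F : Type*) [Field F] :
    GL (Fin m) F →* Matrix (Fin m ⊕ Fin m) (Fin m ⊕ Fin m) F where
  toFun A := fromBlocks (A : Matrix (Fin m) (Fin m) F) 0 0 ((A⁻¹ : GL (Fin m) F) : Matrix (Fin m) (Fin m) F)ᵀ
  map_one' := by simp [fromBlocks_one]
  map_mul' A B := by
    rw [fromBlocks_multiply, _root_.mul_inv_rev, Units.val_mul, Units.val_mul, transpose_mul]
    simp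

theorem hyp_dot {m : ℕ} (A : GL (Fin m) F) (x y : Fin m → F) :
    (A : Matrix (Fin m) (Fin m) F) *ᵥ x ⬝ᵥ ((A⁻¹ : GL (Fin m) F) : Matrix (Fin m) (Fin m) F)ᵀ *ᵥ y =
      x ⬝ᵥ y := by
  rw [mulVec_transpose, ← dotProduct_comm, ← dotProduct_mulVec, mulVec_mulVec, ← Units.val_mul,
    inv_mul_cancel, Units.val_one, one_mulVec, dotProduct_comm]

theorem hyp_form (m : ℕ) (A : GL (Fin m) F) (v : Fin m ⊕ Fin m → F) :
    ∑ i : Fin m, (hypHom m F A *ᵥ v) (.inl i) * (hypHom m F A *ᵥ v) (.inr i) =
      ∑ i : Fin m, v (.inl i) * v (.inr i) := by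
  have := hyp_dot A (v ∘ Sum.inl) (v ∘ Sum.inr)
  simpa [hypHom, fromBlocks_mulVec, dotProduct] using this

/-- `GL_m → Sp_2m` -/
noncomputable def glToSp (m : ℕ) (F : Type*) [Field F] :
    GL (Fin m) F →* Matrix.symplecticGroup (Fin m) F :=
  (hypHom m F).codRestrict _ fun A => by
    rw [SymplecticGroup.mem_iff, hypHom]
    simp only [MonoidHom.coe_mk, OneHom.coe_mk, Matrix.J, fromBlocks_transpose, fromBlocks_multiply,
      transpose_zero, transpose_transpose]
    simp [← Units.val_mul, ← transpose_mul]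

theorem glToSp_injective (m : ℕ) : Function.Injective (glToSp m F) := by
  intro A B h
  have : hypHom m F A = hypHom m F B := congrArg Subtype.val h
  exact Units.ext (fromBlocks_inj.1 this).1

/-- an isometry-valued hom from a matrix-valued one -/
def toIsometry {G : Type*} [Group G] {ι : Type} [Fintype ι] [DecidableEq ι] (Q : (ι → F) → F)
    (φ : G →* Matrix ι ι F) (h : ∀ g v, Q (φ g *ᵥ v) = Q v) : G →* Cfsg.isometryGroup F Q :=
  φ.toHomUnits.codRestrict _ fun g => fun u _ => h g u

theorem toIsometry_injective {G : Type*} [Group G] {ι : Type} [Fintype ι] [DecidableEq ι]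
    (Q : (ι → F) → F) (φ : G →* Matrix ι ι F) (h : ∀ g v, Q (φ g *ᵥ v) = Q v)
    (hφ : Function.Injective φ) : Function.Injective (toIsometry Q φ h) := by
  intro a b hab
  apply hφ
  exact congrArg (fun x : Cfsg.isometryGroup F Q => ((x : GL ι F) : Matrix ι ι F)) hab

/-- `X ↦ diag(1, X)` or `diag(X, 1)` on matrices -/
def padLeft (κ : Type) [Fintype κ] [DecidableEq κ] (ι : Type) [Fintype ι] [DecidableEq ι] (F : Type*) [Field F] :
    Matrix ι ι F →* Matrix (κ ⊕ ι) (κ ⊕ ι) F where
  toFun X := fromBlocks 1 0 0 X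
  map_one' := fromBlocks_one
  map_mul' X Y := by simp [fromBlocks_multiply]

/-- `X ↦ diag(X, 1)` -/
def padRight (κ : Type) [Fintype κ] [DecidableEq κ] (ι : Type) [Fintype ι] [DecidableEq ι] (F : Type*) [Field F] :
    Matrix ι ι F →* Matrix (ι ⊕ κ) (ι ⊕ κ) F where
  toFun X := fromBlocks X 0 0 1
  map_one' := fromBlocks_one
  map_mul' X Y := by simp [fromBlocks_multiply]

theorem glToOPlus (m : ℕ) :
    ∃ φ : GL (Fin m) F →* Cfsg.isometryGroup F (Cfsg.quadFormPlus m F), Function.Injective φ :=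
  ⟨toIsometry _ (hypHom m F) (hyp_form m), toIsometry_injective _ _ _ fun A B h =>
    Units.ext (fromBlocks_inj.1 h).1⟩

theorem glToOOdd (m : ℕ) :
    ∃ φ : GL (Fin m) F →* Cfsg.isometryGroup F (Cfsg.quadFormOdd m F), Function.Injective φ := by
  refine ⟨toIsometry _ ((padLeft Unit _ F).comp (hypHom m F)) ?_, toIsometry_injective _ _ _ ?_⟩
  · intro g v
    have := hyp_form m g (v ∘ Sum.inr)
    simp only [Cfsg.quadFormOdd, MonoidHom.comp_apply, padLeft, MonoidHom.coe_mk, OneHom.coe_mk,
      fromBlocks_mulVec]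
    simpa using this
  · intro A B h
    exact Units.ext (fromBlocks_inj.1 (fromBlocks_inj.1 h).2.2.2).1

theorem glToOMinus (m : ℕ) (a b : F) :
    ∃ φ : GL (Fin m) F →* Cfsg.isometryGroup F (Cfsg.quadFormMinus m F a b), Function.Injective φ := by
  refine ⟨toIsometry _ ((padRight (Fin 2) _ F).comp (hypHom m F)) ?_, toIsometry_injective _ _ _ ?_⟩
  · intro g v
    have := hyp_form m g (v ∘ Sum.inl)
    simp only [Cfsg.quadFormMinus, MonoidHom.comp_apply, padRight, MonoidHom.coe_mk, OneHom.coe_mk,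
      fromBlocks_mulVec]
    simpa using this
  · intro A B h
    exact Units.ext (fromBlocks_inj.1 (fromBlocks_inj.1 h).1).1

end Cfsg.Agent.Lib.Laws
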