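import Cfsg.Agent.Lib.Laws.Basic

/-! A nontrivial word takes a non-central value on commutator elements of `SL2` over any large finite field. -/

namespace Cfsg.Agent.Lib.Laws

open Matrix
open scoped Matrix commutatorElement

universe u

variable {F : Type u} [Field F]

/-- `diag(t, t⁻¹)` -/
def torus (t : Fˣ) : Matrix.SpecialLinearGroup (Fin 2) F :=
  ⟨!![(t : F), 0; 0, ((t⁻¹ : Fˣ) : F)], by simp [Matrix.det_fin_two]⟩

theorem coe_torus (t : Fˣ) : (torus t : Matrix (Fin 2) (Fin 2) F) = !![(t : F), 0; 0, ((t⁻¹ : Fˣ) : F)] := rfl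

theorem torus_inv (t : Fˣ) : (torus t)⁻¹ = torus t⁻¹ := by
  refine inv_eq_of_mul_eq_one_right ?_
  have h : (torus t : Matrix (Fin 2) (Fin 2) F) * (torus t⁻¹ : Matrix (Fin 2) (Fin 2) F) = 1 := by
    rw [coe_torus, coe_torus]
    ext i j; fin_cases i <;> fin_cases j <;> simp [Matrix.mul_apply]
  exact Subtype.ext h

/-- the Weyl element -/
def weyl : Matrix.SpecialLinearGroup (Fin 2) F := ⟨!![0, 1; -1, 0], by simp [Matrix.det_fin_two]⟩

theorem torus_sq_mem (r : Fˣ) :
    torus (r * r) ∈ commutator (Matrix.SpecialLinearGroup (Fin 2) F) := by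
  have h : torus (r * r) = ⁅torus r, (weyl : Matrix.SpecialLinearGroup (Fin 2) F)⁆ := by
    rw [commutatorElement_def, eq_mul_inv_iff_mul_eq, eq_mul_inv_iff_mul_eq]
    have h' : (torus (r * r) : Matrix (Fin 2) (Fin 2) F) * !![0, 1; -1, 0] *
        (torus r : Matrix (Fin 2) (Fin 2) F) = (torus r : Matrix (Fin 2) (Fin 2) F) * !![0, 1; -1, 0] := by
      rw [coe_torus, coe_torus]
      ext i j; fin_cases i <;> fin_cases j <;> simp [Matrix.mul_apply]
    exact Subtype.ext h'
  rw [h]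
  exact Subgroup.commutator_mem_commutator (Subgroup.mem_top _) (Subgroup.mem_top _)

/-- the second conjugating matrix -/
def tilt (c : F) : Matrix.SpecialLinearGroup (Fin 2) F :=
  ⟨!![1, 1; c, 1 + c], by simp [Matrix.det_fin_two]⟩

theorem exists_ne_zero_neg_one [Fintype F] (hF : 3 ≤ Fintype.card F) : ∃ c : F, c ≠ 0 ∧ c ≠ -1 := by
  classical
  obtain ⟨c, -, hc⟩ := Finset.exists_mem_notMem_of_card_lt_card (s := ({0, -1} : Finset F))
    (t := Finset.univ) (lt_of_le_of_lt Finset.card_le_two hF)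
  exact ⟨c, by simpa using hc⟩

theorem sl2_witness_two (v : FreeGroup (Fin 2)) (hv : v ≠ 1) :
    ∃ N : ℕ, ∀ (F : Type u) [Field F] [Fintype F], N ≤ Fintype.card F →
      ∃ g : Fin 2 → Matrix.SpecialLinearGroup (Fin 2) F,
        (∀ i, g i ∈ commutator (Matrix.SpecialLinearGroup (Fin 2) F)) ∧
        FreeGroup.lift g v ∉ Subgroup.center (Matrix.SpecialLinearGroup (Fin 2) F) := by
  refine ⟨v.toWord.length * 4 + 3, fun F _ _ hF => ?_⟩
  classical
  obtain ⟨c, hc0, hc1⟩ := exists_ne_zero_neg_one (F := F) (by omega)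
  have hc1' : 1 + c ≠ 0 := fun h => hc1 (by linear_combination h)
  let hh : Fin 2 → Matrix.SpecialLinearGroup (Fin 2) F := ![1, tilt c]
  let a : Bool → Fin 2 → ℕ := fun e => if e then ![4, 0] else ![0, 4]
  let top : Bool → Fin 2 := fun e => if e then 0 else 1
  have hne : v.toWord ≠ [] := by rwa [ne_eq, FreeGroup.toWord_eq_nil_iff]
  obtain ⟨s, hs0, hs⟩ := exists_nonscalar (F := F) (fun i => (hh i : Matrix (Fin 2) (Fin 2) F))
    (fun i => (((hh i)⁻¹ : Matrix.SpecialLinearGroup (Fin 2) F) : Matrix (Fin 2) (Fin 2) F)) a 4 top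
    (by intro e k; cases e <;> fin_cases k <;> simp [a])
    (by intro e k; cases e <;> fin_cases k <;> simp [a, top])
    (by
      intro i j e f hij
      by_cases hh' : i = j
      · subst hh'
        rw [← Matrix.SpecialLinearGroup.coe_mul, hij rfl, inv_mul_cancel]
        simp
      · rw [Matrix.SpecialLinearGroup.coe_inv]
        have h0 : (hh 0 : Matrix (Fin 2) (Fin 2) F) = 1 := rfl
        have h1 : (hh 1 : Matrix (Fin 2) (Fin 2) F) = !![1, 1; c, 1 + c] := rfl
        fin_cases i <;> fin_cases j <;> simp at hh' <;> cases e <;> cases f <;>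
          simp [h0, h1, top, Matrix.adjugate_fin_two, hc0, hc1'])
    v.toWord hne FreeGroup.isReduced_toWord (by omega)
  set r : Fˣ := Units.mk0 s hs0
  let g : Fin 2 → Matrix.SpecialLinearGroup (Fin 2) F := fun i => hh i * torus (r * r) * (hh i)⁻¹
  refine ⟨g, fun i => (inferInstance : (commutator (Matrix.SpecialLinearGroup (Fin 2) F)).Normal).conj_mem _
    (torus_sq_mem r) (hh i), ?_⟩
  intro hcen
  obtain ⟨z, -, hz⟩ := Matrix.SpecialLinearGroup.mem_center_iff.1 hcen
  apply hs ((s ^ 2) ^ v.toWord.length * z)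
  have hletter : ∀ x : Fin 2 × Bool, letterVal (fun i => (hh i : Matrix (Fin 2) (Fin 2) F))
      (fun i => (((hh i)⁻¹ : Matrix.SpecialLinearGroup (Fin 2) F) : Matrix (Fin 2) (Fin 2) F)) a s x =
      (s ^ 2) • ((cond x.2 (g x.1) (g x.1)⁻¹ : Matrix.SpecialLinearGroup (Fin 2) F) : Matrix (Fin 2) (Fin 2) F) := by
    rintro ⟨i, e⟩
    have hd : diagonal (fun k => s ^ a e k) =
        (s ^ 2) • ((cond e (torus (r * r)) (torus (r * r))⁻¹ : Matrix.SpecialLinearGroup (Fin 2) F) :
          Matrix (Fin 2) (Fin 2) F) := by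
      cases e
      · rw [cond_false, torus_inv, coe_torus]
        ext k l; fin_cases k <;> fin_cases l <;> simp [a, r] <;> field_simp
      · rw [cond_true, coe_torus]
        ext k l; fin_cases k <;> fin_cases l <;> simp [a, r] <;> field_simp
    have hg : (cond e (g i) (g i)⁻¹) = hh i * cond e (torus (r * r)) (torus (r * r))⁻¹ * (hh i)⁻¹ := by
      cases e <;> simp [g, mul_assoc]
    simp only [letterVal, hg, hd, Matrix.SpecialLinearGroup.coe_mul, Matrix.mul_smul, Matrix.smul_mul]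
  have hprod : ∀ l : List (Fin 2 × Bool),
      (l.map (letterVal (fun i => (hh i : Matrix (Fin 2) (Fin 2) F))
        (fun i => (((hh i)⁻¹ : Matrix.SpecialLinearGroup (Fin 2) F) : Matrix (Fin 2) (Fin 2) F)) a s)).prod =
      (s ^ 2) ^ l.length •
        (((l.map fun x => cond x.2 (g x.1) (g x.1)⁻¹).prod : Matrix.SpecialLinearGroup (Fin 2) F) :
          Matrix (Fin 2) (Fin 2) F) := by
    intro l
    induction l with
    | nil => simp
    | cons x l ih =>
      rw [List.map_cons, List.prod_cons, hletter, ih, List.map_cons, List.prod_cons,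
        Matrix.SpecialLinearGroup.coe_mul, List.length_cons, pow_succ' (s ^ 2), Matrix.smul_mul, Matrix.mul_smul,
        smul_smul]
  rw [hprod, ← FreeGroup.lift_mk, FreeGroup.mk_toWord, ← hz]
  ext k l
  simp [Matrix.diagonal_apply]

theorem sl2_witness (w : FreeGroup ℕ) (hw : w ≠ 1) :
    ∃ N : ℕ, ∀ (F : Type u) [Field F] [Fintype F], N ≤ Fintype.card F →
      ∃ f : ℕ → Matrix.SpecialLinearGroup (Fin 2) F,
        (∀ n, f n ∈ commutator (Matrix.SpecialLinearGroup (Fin 2) F)) ∧
        FreeGroup.lift f w ∉ Subgroup.center (Matrix.SpecialLinearGroup (Fin 2) F) := by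
  obtain ⟨N, hN⟩ := sl2_witness_two.{u} (twoGen w) fun h => hw (twoGen_injective (h.trans (map_one _).symm))
  refine ⟨N, fun F _ _ hF => ?_⟩
  obtain ⟨g, hg, hv⟩ := hN F hF
  refine ⟨fun n => g 0 ^ n * g 1 * (g 0 ^ n)⁻¹, fun n => ?_, by rwa [lift_twoGen]⟩
  exact Subgroup.mul_mem _ (Subgroup.mul_mem _ (Subgroup.pow_mem _ (hg 0) n) (hg 1))
    (Subgroup.inv_mem _ (Subgroup.pow_mem _ (hg 0) n))

end Cfsg.Agent.Lib.Laws
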